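import Groth.Agent.ChowLib.Main
import Groth.Agent.ProjMap.BaseChange

/-! Chow's lemma without finiteness of components, by stratifying along a finite affine cover. -/

set_option autoImplicit false
set_option backward.defeqAttrib.useBackward true
set_option backward.isDefEq.respectTransparency false
set_option linter.style.haveILetI false

universe u

open CategoryTheory CategoryTheory.Limits AlgebraicGeometry TopologicalSpace

noncomputable section

namespace Groth.Agent.ChowLib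

variable {X S : Scheme.{u}}

/-- A disjoint union of an affine open and a quasi-affine open is quasi-affine. -/
theorem isQuasiAffine_sup {V U : X.Opens} (hV : IsAffineOpen V) (hU : U.toScheme.IsQuasiAffine)
    (hd : V ⊓ U = ⊥) : (V ⊔ U).toScheme.IsQuasiAffine := by
  classical
  let W := (V ⊔ U).toScheme
  let A : W.Opens := (V ⊔ U).ι ⁻¹ᵁ V
  let B : W.Opens := (V ⊔ U).ι ⁻¹ᵁ U
  have hAV : (V ⊔ U).ι ''ᵁ A = V := by
    rw [Scheme.Hom.image_preimage_eq_opensRange_inf, Scheme.Opens.opensRange_ι, inf_eq_right]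
    exact le_sup_left
  have hBU : (V ⊔ U).ι ''ᵁ B = U := by
    rw [Scheme.Hom.image_preimage_eq_opensRange_inf, Scheme.Opens.opensRange_ι, inf_eq_right]
    exact le_sup_right
  have hA : IsAffineOpen A := by
    rw [← Scheme.Hom.isAffineOpen_iff_of_isOpenImmersion (V ⊔ U).ι, hAV]; exact hV
  haveI hB : B.toScheme.IsQuasiAffine :=
    haveI := hU
    haveI : CompactSpace B.toScheme := by
      refine isCompact_iff_compactSpace.1 ?_
      rw [(V ⊔ U).ι.isOpenEmbedding.isEmbedding.isCompact_iff]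
      rw [show (V ⊔ U).ι '' (B : Set W) = (U : Set X) from congrArg (SetLike.coe) hBU]
      exact isCompact_iff_compactSpace.2 hU.toCompactSpace
    let b : B.toScheme ⟶ U.toScheme := IsOpenImmersion.lift U.ι (B.ι ≫ (V ⊔ U).ι) (by
      rw [Scheme.Opens.range_ι]; rintro _ ⟨z, rfl⟩; exact z.2)
    haveI : IsOpenImmersion (b ≫ U.ι) := by rw [IsOpenImmersion.lift_fac]; infer_instance
    haveI : IsOpenImmersion b := IsOpenImmersion.of_comp b U.ι
    Scheme.IsQuasiAffine.of_isImmersion b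
  have hAB : A ⊓ B = ⊥ := by
    rw [← Scheme.Hom.preimage_inf, hd]; rfl
  have hcov : A ⊔ B = ⊤ := top_le_iff.1 fun z _ => z.2
  haveI : CompactSpace W := isCompact_iff_compactSpace.1 <| by
    rw [Opens.coe_sup]
    exact hV.isCompact.union (isCompact_iff_compactSpace.2 hU.toCompactSpace)
  have hglue : ∀ (s : Γ(W, A)) (t : Γ(W, B)), ∃ r : Γ(W, ⊤),
      W.presheaf.map (homOfLE le_top).op r = s ∧ W.presheaf.map (homOfLE le_top).op r = t := fun s t => by
    obtain ⟨r, hr, -⟩ := W.sheaf.existsUnique_gluing' (fun i : ULift.{u} Bool => bif i.down then A else B) ⊤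
      (fun _ => homOfLE le_top)
      (by
        rintro z -
        rcases (show z ∈ A ⊔ B by rw [hcov]; trivial) with h | h
        · exact Opens.mem_iSup.2 ⟨⟨true⟩, h⟩
        · exact Opens.mem_iSup.2 ⟨⟨false⟩, h⟩)
      (fun i => match i with | ⟨true⟩ => s | ⟨false⟩ => t)
      (by
        rintro ⟨i⟩ ⟨j⟩
        rcases eq_or_ne i j with rfl | hne
        · rfl
        · refine TopCat.Presheaf.section_ext W.sheaf _ _ _ fun z hz => ?_
          exfalso
          cases i <;> cases j <;> simp_all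
          first | exact hAB.le ⟨hz.2, hz.1⟩ | exact hAB.le hz)
    exact ⟨r, hr ⟨true⟩, hr ⟨false⟩⟩
  refine Scheme.IsQuasiAffine.of_forall_exists_mem_basicOpen W fun z => ?_
  rcases (show z ∈ A ⊔ B by rw [hcov]; trivial) with h | h
  · obtain ⟨r, hrA, hrB⟩ := hglue 1 0
    have e : W.basicOpen r = A := by
      have e1 := W.basicOpen_res r (homOfLE (le_top : A ≤ ⊤)).op
      have e2 := W.basicOpen_res r (homOfLE (le_top : B ≤ ⊤)).op
      rw [hrA, Scheme.basicOpen_of_isUnit _ isUnit_one] at e1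
      rw [hrB, Scheme.basicOpen_zero] at e2
      have h3 : W.basicOpen r = (A ⊔ B) ⊓ W.basicOpen r := by rw [hcov, top_inf_eq]
      rw [h3, inf_sup_right, ← e1, ← e2, sup_bot_eq]
    exact ⟨r, by rw [e]; exact hA, by rw [e]; exact h⟩
  · haveI := hB
    obtain ⟨_, ⟨_, ⟨q, hq, rfl⟩, rfl⟩, hzq, -⟩ := (Scheme.IsQuasiAffine.isBasis_basicOpen B.toScheme).exists_subset_of_mem_open
      (Set.mem_univ ⟨z, h⟩) isOpen_univ
    obtain ⟨r, hrA, hrB⟩ := hglue 0 (B.topIso.hom q)
    have e : W.basicOpen r = B.ι ''ᵁ B.toScheme.basicOpen q := by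
      have e1 := W.basicOpen_res r (homOfLE (le_top : A ≤ ⊤)).op
      have e2 := W.basicOpen_res r (homOfLE (le_top : B ≤ ⊤)).op
      rw [hrA, Scheme.basicOpen_zero] at e1
      rw [hrB] at e2
      have e3 : B.ι ''ᵁ B.toScheme.basicOpen q = W.basicOpen (B.topIso.hom q) := by
        rw [Scheme.Opens.ι_image_basicOpen]
        exact (Scheme.basicOpen_res_eq _ _ _).symm
      have h3 : W.basicOpen r = (A ⊔ B) ⊓ W.basicOpen r := by rw [hcov, top_inf_eq]
      rw [h3, inf_sup_right, ← e1, ← e2, bot_sup_eq, e3]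
    refine ⟨r, ?_, ?_⟩
    · rw [e]; exact hq.image_of_isOpenImmersion B.ι
    · rw [e]; exact ⟨⟨z, h⟩, hzq, rfl⟩

/-- Jointly surjective finite families detect universal closedness. -/
theorem universallyClosed_of_family {A Y : Scheme.{u}} (π : A ⟶ Y) {ι : Type*} [Finite ι] {P : ι → Scheme.{u}}
    (a : ∀ i, P i ⟶ A) (hs : ∀ z, ∃ i, z ∈ Set.range (a i)) (h : ∀ i, UniversallyClosed (a i ≫ π)) :
    UniversallyClosed π := by
  refine ⟨fun {A' Y'} g g' π' hsq => ?_⟩
  intro C hC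
  have hC' : (π' '' C) = ⋃ i, ((pullback.snd (a i) g) ≫ π') '' ((pullback.snd (a i) g) ⁻¹' C) := by
    ext y
    constructor
    · rintro ⟨w, hw, rfl⟩
      obtain ⟨i, p, hp⟩ := hs (g w)
      obtain ⟨q, -, hq⟩ := Scheme.Pullback.exists_preimage_pullback p w hp
      exact Set.mem_iUnion.2 ⟨i, q, (show pullback.snd (a i) g q ∈ C from hq.symm ▸ hw), by
        rw [Scheme.Hom.comp_apply, hq]⟩
    · intro hy
      obtain ⟨i, q, hq, rfl⟩ := Set.mem_iUnion.1 hy
      exact ⟨_, hq, by rw [Scheme.Hom.comp_apply]⟩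
  rw [hC']
  refine isClosed_iUnion_of_finite fun i => ?_
  have hi := (IsPullback.of_hasPullback (a i) g).paste_vert hsq.flip
  haveI : UniversallyClosed (pullback.snd (a i) g ≫ π') :=
    MorphismProperty.of_isPullback (P := @UniversallyClosed) hi (h i)
  exact (pullback.snd (a i) g ≫ π').isClosedMap _ (hC.preimage (pullback.snd (a i) g).continuous)

/-- Finitely many schemes in projective spaces over `S` sit together in one. -/
theorem exists_immersion_sigma (t : ℕ) (X' : Fin t → Scheme.{u}) (φ : ∀ i, X' i ⟶ S) (n : Fin t → ℕ)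
    (j : ∀ i, X' i ⟶ CohB1.ProjSpaceOver (n i) S) (hj : ∀ i, IsImmersion (j i))
    (hjφ : ∀ i, j i ≫ CohB1.ProjSpaceOver.toBase (n i) S = φ i) :
    ∃ (N : ℕ) (J : ∐ X' ⟶ CohB1.ProjSpaceOver N S),
      IsImmersion J ∧ J ≫ CohB1.ProjSpaceOver.toBase N S = Sigma.desc φ := by
  classical
  let A : Type u := ULift.{u} ℤ
  obtain ⟨N, P, s, ι, hι, hs, pr, hpr, hlift⟩ := ProperFin.exists_segreProd (A := A) (t + 1) (Fin.cons t n)
  let δ : ∀ (m : ℕ), Fin (m + 1) → Fin (m + 1) → A := fun m a c => if c = a then 1 else 0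
  have hδ : ∀ m a, IsUnit (δ m a a) := fun m a => by simp [δ]
  let pt : ∀ (T : Scheme.{u}) (m : ℕ) (a : Fin (m + 1)), T ⟶ CohB1.ProjSpace m A := fun T m a =>
    specULiftZIsTerminal.from T ≫ ProjMap.point (R := A) (δ m a) a (hδ m a)
  have hl : ∀ i, ∃ l : X' i ⟶ P, l ≫ pr 0 = pt (X' i) t i.castSucc ∧
      l ≫ pr i.succ = j i ≫ pullback.fst _ _ := fun i => by
    obtain ⟨l, -, hlk⟩ := hlift (X' i) (specULiftZIsTerminal.from _)
      (Fin.cases (pt (X' i) t i.castSucc) fun k => if h : i = k then (by subst h; exact j i ≫ pullback.fst _ _) else pt (X' i) (n k) 0)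
      fun k => to_ext _ _
    refine ⟨l, hlk 0, (hlk i.succ).trans ?_⟩
    simp
  choose l hl₀ hl₁ using hl
  let sS : S ⟶ Spec (CommRingCat.of A) := specULiftZIsTerminal.from S
  let j₀ : ∐ X' ⟶ pullback s sS := pullback.lift (Sigma.desc l) (Sigma.desc φ) (to_ext _ _)
  let O : Fin t → (pullback s sS).Opens := fun i => (pullback.fst s sS ≫ pr 0) ⁻¹ᵁ
    (Proj.basicOpen (CohB1.polyGrading t A) (MvPolynomial.X i.castSucc))
  have hmem : ∀ i k (z : X' k), j₀ (Sigma.ι X' k z) ∈ O i ↔ k = i := fun i k z => by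
    show (Sigma.ι X' k ≫ j₀ ≫ pullback.fst s sS ≫ pr 0) z ∈ Proj.basicOpen (CohB1.polyGrading t A) (MvPolynomial.X i.castSucc) ↔ _
    rw [show Sigma.ι X' k ≫ j₀ ≫ pullback.fst s sS ≫ pr 0 = pt (X' k) t k.castSucc by simp [j₀, hl₀]]
    show specULiftZIsTerminal.from (X' k) z ∈ ProjMap.point (R := A) (δ t k.castSucc) k.castSucc (hδ t k.castSucc) ⁻¹ᵁ
      Proj.basicOpen (CohB1.polyGrading t A) (MvPolynomial.X i.castSucc) ↔ _
    rw [ProjMap.point_preimage_basicOpen _ _ _ one_pos (ProjMap.X_mem _)]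
    rw [MvPolynomial.aeval_X]
    by_cases h : k = i
    · subst h
      simp [δ]
    · simp [δ, h, Fin.castSucc_inj, Ne.symm h]
  haveI : IsImmersion j₀ := by
    let Ω : (pullback s sS).Opens := ⨆ i, O i
    have hcov : ∀ w : (∐ X' : Scheme.{u}), ∃ i z, Sigma.ι X' i z = w := fun w =>
      ⟨_, (sigmaOpenCover X').covers w⟩
    have h1 : ∀ i, IsImmersion (j₀ ∣_ O i) := fun i => by
      let a : X' i ⟶ (j₀ ⁻¹ᵁ O i : (∐ X' : Scheme.{u}).Opens) :=
        IsOpenImmersion.lift (j₀ ⁻¹ᵁ O i).ι (Sigma.ι X' i) (by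
          rw [Scheme.Opens.range_ι]; rintro _ ⟨z, rfl⟩; exact (hmem i i z).2 rfl)
      have haι : a ≫ (j₀ ⁻¹ᵁ O i).ι = Sigma.ι X' i := IsOpenImmersion.lift_fac _ _ _
      haveI : IsOpenImmersion (a ≫ (j₀ ⁻¹ᵁ O i).ι) := by rw [haι]; infer_instance
      haveI : IsOpenImmersion a := IsOpenImmersion.of_comp a (j₀ ⁻¹ᵁ O i).ι
      haveI : Surjective a := ⟨fun w => by
        obtain ⟨k, z, hz⟩ := hcov w.1
        have hk : k = i := (hmem i k z).1 (by rw [hz]; exact w.2)
        subst hk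
        refine ⟨z, Subtype.ext ?_⟩
        show (j₀ ⁻¹ᵁ O k).ι (a z) = w.1
        rw [← Scheme.Hom.comp_apply, haι, hz]⟩
      haveI : IsIso a := (isIso_iff_isOpenImmersion_and_surjective a).2 ⟨inferInstance, inferInstance⟩
      let q : (O i).toScheme ⟶ CohB1.ProjSpaceOver (n i) S :=
        (O i).ι ≫ pullback.lift (pullback.fst s sS ≫ pr i.succ) (pullback.snd s sS) (to_ext _ _)
      have e : (a ≫ (j₀ ∣_ O i)) ≫ q = j i := by
        simp only [q, Category.assoc, morphismRestrict_ι_assoc]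
        rw [reassoc_of% haι]
        apply pullback.hom_ext
        · simp [j₀, hl₁]
        · simp only [j₀, ← hjφ i, Category.assoc, pullback.lift_snd, Sigma.ι_desc, CohB1.ProjSpaceOver.toBase]
      haveI := hj i
      haveI : IsImmersion ((a ≫ (j₀ ∣_ O i)) ≫ q) := by rw [e]; infer_instance
      haveI : IsImmersion (a ≫ (j₀ ∣_ O i)) := IsImmersion.of_comp (a ≫ (j₀ ∣_ O i)) q
      exact (MorphismProperty.cancel_left_of_respectsIso @IsImmersion a _).1 inferInstance
    haveI : IsImmersion (j₀ ∣_ Ω) := by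
      refine (IsZariskiLocalAtTarget.iff_of_iSup_eq_top (P := @IsImmersion) (fun k => Ω.ι ⁻¹ᵁ O k) ?_).2 fun k => ?_
      · refine top_le_iff.1 fun y _ => ?_
        obtain ⟨k, hk⟩ := Opens.mem_iSup.1 y.2
        exact Opens.mem_iSup.2 ⟨k, hk⟩
      · refine (MorphismProperty.arrow_mk_iso_iff @IsImmersion
          (morphismRestrictRestrict j₀ Ω (Ω.ι ⁻¹ᵁ O k) ≪≫ morphismRestrictEq j₀ ?_)).2 (h1 k)
        rw [Scheme.Hom.image_preimage_eq_opensRange_inf, Scheme.Opens.opensRange_ι, inf_eq_right]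
        exact le_iSup O k
    let e : (∐ X' : Scheme.{u}) ⟶ (j₀ ⁻¹ᵁ Ω : (∐ X' : Scheme.{u}).Opens) := IsOpenImmersion.lift (j₀ ⁻¹ᵁ Ω).ι (𝟙 _) (by
      rw [Scheme.Opens.range_ι]
      rintro w -
      obtain ⟨k, z, rfl⟩ := hcov w
      exact Opens.mem_iSup.2 ⟨k, (hmem k k z).2 rfl⟩)
    haveI : IsIso e := by
      refine ⟨(j₀ ⁻¹ᵁ Ω).ι, IsOpenImmersion.lift_fac _ _ _, ?_⟩
      rw [← cancel_mono (j₀ ⁻¹ᵁ Ω).ι, Category.assoc, IsOpenImmersion.lift_fac, Category.comp_id, Category.id_comp]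
    have he : e ≫ (j₀ ∣_ Ω) ≫ Ω.ι = j₀ := by rw [morphismRestrict_ι, IsOpenImmersion.lift_fac_assoc, Category.id_comp]
    rw [← he]
    infer_instance
  let ιS : pullback s sS ⟶ CohB1.ProjSpaceOver N S :=
    pullback.map _ _ _ _ ι (𝟙 S) (𝟙 _) (to_ext _ _) (to_ext _ _)
  haveI : IsClosedImmersion ιS :=
    MorphismProperty.pullbackMap (P := @IsClosedImmersion) hι (show IsClosedImmersion (𝟙 S) from inferInstance) hs.symm
      (Category.id_comp _).symm
  refine ⟨N, j₀ ≫ ιS, inferInstance, ?_⟩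
  simp [ιS, j₀, CohB1.ProjSpaceOver.toBase]

/-- The stratum of points lying in exactly the members indexed by `K` is dominated by a Chow cover of its closure. -/
theorem exists_piece (f : X ⟶ S) [QuasiSeparatedSpace S] [IsSeparated f] [LocallyOfFiniteType f] [QuasiCompact f]
    {r : ℕ} (V : Fin r → X.Opens) (hV : ∀ k, IsAffineOpen (V k)) (hcov : ∀ x, ∃ k, x ∈ V k)
    (K : Finset (Fin r)) :
    ∃ (N : ℕ) (X' : Scheme.{u}) (π : X' ⟶ X) (j : X' ⟶ CohB1.ProjSpaceOver N S),
      IsImmersion j ∧ j ≫ CohB1.ProjSpaceOver.toBase N S = π ≫ f ∧ IsProper π ∧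
        ∀ x, (∀ k, x ∈ V k ↔ k ∈ K) → x ∈ Set.range π := by
  classical
  haveI : QuasiSeparatedSpace X := quasiSeparatedSpace_of_quasiSeparated f
  let E : Set X := {x | ∀ k, x ∈ V k ↔ k ∈ K}
  let I : X.Opens := ⟨⋂ k ∈ K, (V k : Set X), isOpen_biInter_finset fun k _ => (V k).2⟩
  let i := (Scheme.IdealSheafData.vanishingIdeal (⟨closure E, isClosed_closure⟩ : Closeds X)).subschemeι
  have hi : Set.range i = closure E := by
    rw [Scheme.IdealSheafData.range_subschemeι, Scheme.IdealSheafData.coe_support_vanishingIdeal]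
    rfl
  have hE : closure E ∩ I = E := by
    refine Set.Subset.antisymm (fun x ⟨hx, hxI⟩ k => ⟨fun hxk => ?_, fun hk => Set.mem_iInter₂.1 hxI k hk⟩)
      fun x hx => ⟨subset_closure hx, Set.mem_iInter₂.2 fun k hk => (hx k).2 hk⟩
    obtain ⟨y, hy, hyE⟩ := mem_closure_iff.1 hx (V k) (V k).2 hxk
    exact (hyE k).1 hy
  let U := i ⁻¹ᵁ I
  have hUE : SetLike.coe U = i ⁻¹' E := by
    ext z
    refine ⟨fun hz => ?_, fun hz => Set.mem_iInter₂.2 fun k hk => (hz k).2 hk⟩
    exact hE.le ⟨hi.le ⟨z, rfl⟩, hz⟩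
  have hd : Dense (SetLike.coe U) := by
    rw [hUE, dense_iff_inter_open]
    intro O hO ⟨z, hz⟩
    obtain ⟨O', hO', rfl⟩ := i.isEmbedding.isInducing.isOpen_iff.1 hO
    obtain ⟨y, hy, hyE⟩ := mem_closure_iff.1 (hi.le ⟨z, rfl⟩) O' hO' hz
    obtain ⟨w, rfl⟩ := hi.ge (subset_closure hyE)
    exact ⟨w, hy, hyE⟩
  rcases K.eq_empty_or_nonempty with hK | ⟨k₀, hk₀⟩
  · obtain ⟨r', rfl⟩ : ∃ r', r' = r := ⟨r, rfl⟩
    refine ⟨0, (⊥ : X.Opens).toScheme, (⊥ : X.Opens).ι, pullback.lift (specULiftZIsTerminal.from _ ≫ ProjMap.point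
      (R := ULift.{u} ℤ) (fun _ => 1) 0 isUnit_one) ((⊥ : X.Opens).ι ≫ f) (to_ext _ _), ?_, pullback.lift_snd _ _ _, ?_, ?_⟩
    · haveI : IsEmpty (⊥ : X.Opens).toScheme := ⟨fun z => z.2⟩
      infer_instance
    · haveI : IsEmpty (⊥ : X.Opens).toScheme := ⟨fun z => z.2⟩
      infer_instance
    · intro x hx
      obtain ⟨k, hk⟩ := hcov x
      exact absurd ((hx k).1 hk) (hK ▸ Finset.notMem_empty k)
  haveI hIq : I.toScheme.IsQuasiAffine := by
    haveI := isQuasiAffine_of_isAffineOpen (hV k₀)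
    have hle : I ≤ V k₀ := fun z hz => Set.mem_iInter₂.1 hz k₀ hk₀
    haveI : CompactSpace I.toScheme := isCompact_iff_compactSpace.1 <| by
      suffices ∀ T : Finset (Fin r), T.Nonempty → IsCompact (⋂ k ∈ T, (V k : Set X)) from this K ⟨k₀, hk₀⟩
      intro T hT
      have : IsCompact (⋂ k ∈ T, (V k : Set X)) ∧ IsOpen (⋂ k ∈ T, (V k : Set X)) := by
        induction hT using Finset.Nonempty.cons_induction with
        | singleton a => exact ⟨by simpa using (hV a).isCompact, by simpa using (V a).2⟩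
        | cons a T ha hT ih =>
          refine ⟨?_, isOpen_biInter_finset fun k _ => (V k).2⟩
          rw [Finset.cons_eq_insert, Finset.set_biInter_insert]
          exact QuasiSeparatedSpace.inter_isCompact _ _ (V a).2 (hV a).isCompact ih.2 ih.1
      exact this.1
    exact Scheme.IsQuasiAffine.of_isImmersion (X.homOfLE hle)
  haveI : IsClosedImmersion i := inferInstance
  haveI hUq : U.toScheme.IsQuasiAffine := by
    haveI : IsClosedImmersion (i ∣_ I) := IsZariskiLocalAtTarget.restrict (P := @IsClosedImmersion) inferInstance I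
    exact Scheme.IsQuasiAffine.of_isAffineHom (i ∣_ I)
  let W : Fin r → _ := fun k => if k ∈ K then i ⁻¹ᵁ V k else i ⁻¹ᵁ V k ⊔ U
  have hWq : ∀ k, (W k).toScheme.IsQuasiAffine := fun k => by
    simp only [W]
    split_ifs with hk
    · exact isQuasiAffine_of_isAffineOpen ((hV k).preimage i)
    · refine isQuasiAffine_sup ((hV k).preimage i) hUq (Opens.ext (Set.eq_empty_iff_forall_notMem.2 fun z ⟨hz, hzU⟩ => ?_))
      exact hk (((hUE.le hzU) k).1 hz)
  have hWc : ∀ z, ∃ k, z ∈ W k := fun z => by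
    obtain ⟨k, hk⟩ := hcov (i z)
    refine ⟨k, ?_⟩
    simp only [W]
    split_ifs
    · exact hk
    · exact Or.inl hk
  have hWU : ∀ k, U ≤ W k := fun k z hz => by
    simp only [W]
    split_ifs with hk
    · exact ((hUE.le hz) k).2 hk
    · exact Or.inr hz
  obtain ⟨N, X', π, j, σ, hj, hjf, hπ, -, -, -, -, hs, -⟩ := exists_chow (i ≫ f) W hWq hWc U
    (isCompact_iff_compactSpace.2 hUq.toCompactSpace) hWU
  haveI := hπ
  refine ⟨N, X', π ≫ i, j, hj, by rw [hjf, Category.assoc], inferInstance, fun x hx => ?_⟩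
  obtain ⟨z, rfl⟩ := hi.ge (subset_closure hx)
  haveI := hs hd
  obtain ⟨w, rfl⟩ := π.surjective z
  exact ⟨w, by rw [Scheme.Hom.comp_apply]⟩

/-- Chow's lemma over a quasi-compact quasi-separated base. -/
theorem exists_chow_general (f : X ⟶ S) [CompactSpace S] [QuasiSeparatedSpace S] [IsSeparated f]
    [LocallyOfFiniteType f] [QuasiCompact f] :
    ∃ (n : ℕ) (X' : Scheme.{u}) (π : X' ⟶ X) (j : X' ⟶ CohB1.ProjSpaceOver n S),
      IsImmersion j ∧ j ≫ CohB1.ProjSpaceOver.toBase n S = π ≫ f ∧ IsProper π ∧ Surjective π := by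
  classical
  haveI : CompactSpace X := QuasiCompact.compactSpace_of_compactSpace f
  choose V hV hxV using fun x : X => (exists_isAffineOpen_mem_and_subset (x := x) (U := (⊤ : X.Opens)) trivial)
  obtain ⟨t, ht⟩ := isCompact_univ.elim_finite_subcover (fun z => (V z : Set X)) (fun z => (V z).2)
    fun z _ => Set.mem_iUnion.2 ⟨z, (hxV z).1⟩
  let V₀ : Fin t.card → X.Opens := fun k => V (t.equivFin.symm k).1
  have hc : ∀ x, ∃ k, x ∈ V₀ k := fun z => by
    obtain ⟨a, ha, hza⟩ := Set.mem_iUnion₂.1 (ht (Set.mem_univ z))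
    exact ⟨t.equivFin ⟨a, ha⟩, by simpa [V₀] using hza⟩
  let e := (Fintype.equivFin (Finset (Fin t.card))).symm
  choose n X' π j hj hjf hπ hx using fun i => exists_piece f V₀ (fun k => hV _) hc (e i)
  obtain ⟨N, J, hJ, hJf⟩ := exists_immersion_sigma (Fintype.card (Finset (Fin t.card))) X' (fun i => π i ≫ f) n j hj hjf
  haveI := hJ
  let ϖ := Sigma.desc π
  have hJf' : J ≫ CohB1.ProjSpaceOver.toBase N S = ϖ ≫ f := by
    rw [hJf]; ext i; simp [ϖ]
  have hcov : ∀ w : (∐ X' : Scheme.{u}), ∃ i, w ∈ Set.range (Sigma.ι X' i) := fun w =>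
    ⟨_, (sigmaOpenCover X').covers w⟩
  haveI : UniversallyClosed ϖ := universallyClosed_of_family ϖ (fun i => Sigma.ι X' i) hcov fun i => by
    rw [Sigma.ι_desc]; haveI := hπ i; infer_instance
  haveI : IsSeparated (CohB1.ProjSpaceOver.toBase N S) :=
    haveI := (ProjBundleLib.isProper_of_isProjective (ProjBundleLib.isProjective_of_isHProjective
      (f := CohB1.ProjSpaceOver.toBase N S) ⟨N, 𝟙 _, inferInstance, Category.id_comp _⟩)).1
    inferInstance
  haveI : IsSeparated (ϖ ≫ f) := by rw [← hJf']; infer_instance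
  haveI : IsSeparated ϖ := IsSeparated.of_comp ϖ f
  haveI : LocallyOfFiniteType ϖ :=
    (IsZariskiLocalAtSource.iff_of_openCover (P := @LocallyOfFiniteType) (sigmaOpenCover X')).2 fun i => by
      show LocallyOfFiniteType (Sigma.ι X' i ≫ ϖ)
      rw [Sigma.ι_desc]; haveI := hπ i; infer_instance
  refine ⟨N, _, ϖ, J, hJ, hJf', ⟨⟩, ⟨fun x => ?_⟩⟩
  obtain ⟨w, hw⟩ := hx (e.symm (Finset.univ.filter fun k => x ∈ V₀ k)) x fun k => by simp
  exact ⟨Sigma.ι X' _ w, by rw [← Scheme.Hom.comp_apply, Sigma.ι_desc]; exact hw⟩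

end Groth.Agent.ChowLib
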