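import Groth.Agent.ChowLib.Core
import Groth.Agent.AmpleEmb.Compose
import Groth.Agent.ProjBundleLib.HProj
import Groth.Agent.ProjBundleLib.OpenDense

/-! Chow's lemma over quasi-compact quasi-separated bases. -/

set_option autoImplicit false
set_option backward.isDefEq.respectTransparency false
set_option linter.style.haveILetI false

universe u

open CategoryTheory CategoryTheory.Limits AlgebraicGeometry TopologicalSpace

noncomputable section

namespace Groth.Agent.ChowLib

variable {X S : Scheme.{u}}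

theorem isQuasiAffine_of_isAffineOpen {V : X.Opens} (hV : IsAffineOpen V) : V.toScheme.IsQuasiAffine :=
  haveI : IsAffine V.toScheme := hV
  inferInstance

/-- A quasi-affine scheme of finite type over anything sits in a projective space over it. -/
theorem exists_immersion_quasiAffine (f : X ⟶ S) [LocallyOfFiniteType f] {V : X.Opens} (hV : V.toScheme.IsQuasiAffine) :
    ∃ (n : ℕ) (h : V.toScheme ⟶ CohB1.ProjSpaceOver n S), IsImmersion h ∧
      h ≫ CohB1.ProjSpaceOver.toBase n S = V.ι ≫ f := by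
  haveI := hV
  exact AmpleEmb.exists_immersion_of_isAmple (V.ι ≫ f) (AmpleLib.isQuasiAffine_iff.1 inferInstance)

/-- A finite affine cover all of whose members contain a common dense open. -/
theorem exists_cover_dense [CompactSpace X] (hfin : (irreducibleComponents (X : Type u)).Finite) :
    ∃ (r : ℕ) (V : Fin r → X.Opens) (U : X.Opens), (∀ k, IsAffineOpen (V k)) ∧ (∀ x, ∃ k, x ∈ V k) ∧
      (∀ k, U ≤ V k) ∧ Dense (U : Set X) ∧ (0 < r → (U : Set X) = ⋂ k, (V k : Set X)) := by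
  classical
  let C := {c : Set X // c ∈ irreducibleComponents (X : Type u)}
  haveI : Finite C := hfin.to_subtype
  choose η hη using fun c : C => QuasiSober.sober c.2.1 (isClosed_of_mem_irreducibleComponents _ c.2)
  have hmem : ∀ c c' : C, η c ∈ c'.1 → c = c' := fun c c' h => by
    have hle : c.1 ⊆ c'.1 := by
      rw [← (hη c).def]
      exact (isClosed_of_mem_irreducibleComponents _ c'.2).closure_subset_iff.2 (Set.singleton_subset_iff.2 h)
    exact Subtype.ext (Set.Subset.antisymm hle (c.2.2 c'.2.1 hle))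
  have hG : ∀ c : C, ∃ G : X.Opens, IsAffineOpen G ∧ η c ∈ G ∧ ∀ y ∈ G, ∀ c' : C, y ∈ c'.1 → c = c' := by
    intro c
    let O : X.Opens := ⟨{y | ∀ c' : C, c' ≠ c → y ∉ c'.1}, by
      have : {y : X | ∀ c' : C, c' ≠ c → y ∉ c'.1} = ⋂ c' : {c' : C // c' ≠ c}, (c'.1.1)ᶜ := by
        ext y; simp [Subtype.forall]
      rw [this]
      exact isOpen_iInter_of_finite fun c' => (isClosed_of_mem_irreducibleComponents _ c'.1.2).isOpen_compl⟩
    have hO : η c ∈ O := fun c' hc' h => hc' (hmem c c' h).symm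
    obtain ⟨_, ⟨G, hG, rfl⟩, hx, hsub⟩ := X.isBasis_affineOpens.exists_subset_of_mem_open hO O.2
    exact ⟨G, hG, hx, fun y hy c' hc' => by
      by_contra hne
      exact hsub hy c' (Ne.symm hne) hc'⟩
  choose G hGa hGη hGu using hG
  have hW : ∀ x : X, ∃ V : X.Opens, IsAffineOpen V ∧ x ∈ V ∧ ∀ c, η c ∈ V := by
    intro x
    obtain ⟨_, ⟨W, hW, rfl⟩, hx, -⟩ := X.isBasis_affineOpens.exists_subset_of_mem_open (Set.mem_univ x) isOpen_univ
    let G' : X.Opens := ⨆ c : {c : C // η c ∉ W}, G c.1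
    have hG' : IsAffineOpen G' := IsAffineOpen.iSup_of_disjoint (fun c => hGa _) fun a b hab => by
      rw [Function.onFun, disjoint_iff]
      refine Opens.ext (Set.eq_empty_iff_forall_notMem.2 fun y ⟨ha, hb⟩ => ?_)
      obtain ⟨c, hc, hyc⟩ : y ∈ ⋃₀ irreducibleComponents (X : Type u) :=
        (sUnion_irreducibleComponents (X := X)).ge trivial
      exact hab (Subtype.ext ((hGu a.1 y ha ⟨c, hc⟩ hyc).trans (hGu b.1 y hb ⟨c, hc⟩ hyc).symm))
    refine ⟨W ⊔ G', hW.sup_of_disjoint hG' ?_, Or.inl hx, fun c => ?_⟩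
    · rw [disjoint_iff]
      refine Opens.ext (Set.eq_empty_iff_forall_notMem.2 fun y ⟨hyW, hyG⟩ => ?_)
      obtain ⟨⟨a, ha⟩, hya⟩ := Opens.mem_iSup.1 hyG
      obtain ⟨c, hc, hyc⟩ : y ∈ ⋃₀ irreducibleComponents (X : Type u) :=
        (sUnion_irreducibleComponents (X := X)).ge trivial
      obtain rfl := hGu a y hya ⟨c, hc⟩ hyc
      exact ha (((hη _).specializes hyc).mem_open W.2 hyW)
    · by_cases h : η c ∈ W
      · exact Or.inl h
      · exact Or.inr (Opens.mem_iSup.2 ⟨⟨c, h⟩, hGη c⟩)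
  choose V hVa hxV hηV using hW
  obtain ⟨t, ht⟩ := isCompact_univ.elim_finite_subcover (fun z => (V z : Set X)) (fun z => (V z).2)
    fun z _ => Set.mem_iUnion.2 ⟨z, hxV z⟩
  let V' : Fin t.card → X.Opens := fun k => V (t.equivFin.symm k).1
  let U : X.Opens := ⟨⋂ k, (V' k : Set X), isOpen_iInter_of_finite fun k => (V' k).2⟩
  refine ⟨t.card, V', U, fun k => hVa _, fun z => ?_, fun k z hz => Set.mem_iInter.1 hz k, fun z => ?_, fun _ => rfl⟩
  · obtain ⟨a, ha, hza⟩ := Set.mem_iUnion₂.1 (ht (Set.mem_univ z))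
    exact ⟨t.equivFin ⟨a, ha⟩, by simpa [V'] using hza⟩
  · obtain ⟨c, hc, hzc⟩ : z ∈ ⋃₀ irreducibleComponents (X : Type u) :=
      (sUnion_irreducibleComponents (X := X)).ge trivial
    have h1 : η ⟨c, hc⟩ ∈ (U : Set X) := Set.mem_iInter.2 fun k => hηV _ _
    exact closure_mono (Set.singleton_subset_iff.2 h1) ((hη ⟨c, hc⟩).def.ge hzc)

/-- A finite affine cover all of whose members contain a common nonempty affine open. -/
theorem exists_cover_nonempty [CompactSpace X] [Nonempty X] :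
    ∃ (r : ℕ) (V : Fin r → X.Opens) (U : X.Opens), (∀ k, IsAffineOpen (V k)) ∧ (∀ x, ∃ k, x ∈ V k) ∧
      (∀ k, U ≤ V k) ∧ (U : Set X).Nonempty ∧ IsCompact (U : Set X) := by
  classical
  choose V hV hxV using fun x : X => (exists_isAffineOpen_mem_and_subset (x := x) (U := (⊤ : X.Opens)) trivial)
  obtain ⟨t, ht⟩ := isCompact_univ.elim_finite_subcover (fun z => (V z : Set X)) (fun z => (V z).2)
    fun z _ => Set.mem_iUnion.2 ⟨z, (hxV z).1⟩
  let V₀ : Fin t.card → X.Opens := fun k => V (t.equivFin.symm k).1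
  let 𝒦 : Finset (Finset (Fin t.card)) := Finset.univ.filter fun K => ∃ y, ∀ k ∈ K, y ∈ V₀ k
  obtain ⟨K, hK, hmax⟩ := 𝒦.exists_max_image Finset.card ⟨∅, by simp [𝒦]⟩
  obtain ⟨-, y, hy⟩ := Finset.mem_filter.1 hK
  obtain ⟨_, ⟨U, hU, rfl⟩, hyU, hsub⟩ := X.isBasis_affineOpens.exists_subset_of_mem_open
    (u := ⋂ k ∈ K, (V₀ k : Set X)) (Set.mem_iInter₂.2 hy) (isOpen_biInter_finset fun k _ => (V₀ k).2)
  let V' : Fin t.card → X.Opens := fun k => if k ∈ K then V₀ k else V₀ k ⊔ U
  refine ⟨t.card, V', U, fun k => ?_, fun z => ?_, fun k z hz => ?_, ⟨y, hyU⟩, hU.isCompact⟩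
  · simp only [V']
    split_ifs with h
    · exact hV _
    · refine (hV _).sup_of_disjoint hU ?_
      rw [disjoint_iff]
      refine Opens.ext (Set.eq_empty_iff_forall_notMem.2 fun w ⟨hw, hwU⟩ => ?_)
      have := hmax (insert k K) (Finset.mem_filter.2 ⟨Finset.mem_univ _, w, fun j hj => by
        rcases Finset.mem_insert.1 hj with rfl | hj
        · exact hw
        · exact Set.mem_iInter₂.1 (hsub hwU) j hj⟩)
      rw [Finset.card_insert_of_notMem h] at this
      omega
  · obtain ⟨a, ha, hza⟩ := Set.mem_iUnion₂.1 (ht (Set.mem_univ z))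
    refine ⟨t.equivFin ⟨a, ha⟩, ?_⟩
    have h0 : z ∈ V₀ (t.equivFin ⟨a, ha⟩) := by simpa [V₀] using hza
    simp only [V']
    split_ifs
    · exact h0
    · exact Or.inl h0
  · simp only [V']
    split_ifs with h
    · exact Set.mem_iInter₂.1 (hsub hz) k h
    · exact Or.inr hz

/-- The output of Chow's lemma. -/
theorem exists_chow (f : X ⟶ S) [QuasiSeparatedSpace S] [IsSeparated f] [LocallyOfFiniteType f] [QuasiCompact f]
    {r : ℕ} (V : Fin r → X.Opens) (hV : ∀ k, (V k).toScheme.IsQuasiAffine) (hcov : ∀ x, ∃ k, x ∈ V k)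
    (U : X.Opens) (hU : IsCompact (U : Set X)) (hUV : ∀ k, U ≤ V k) :
    ∃ (N : ℕ) (X' : Scheme.{u}) (π : X' ⟶ X) (j : X' ⟶ CohB1.ProjSpaceOver N S) (σ : U.toScheme ⟶ X'),
      IsImmersion j ∧ j ≫ CohB1.ProjSpaceOver.toBase N S = π ≫ f ∧ IsProper π ∧ IsIso (π ∣_ U) ∧
      RelProj.IsProjective π ∧ RelProj.IsQuasiProjective (π ≫ f) ∧
      Dense ((π ⁻¹ᵁ U : X'.Opens) : Set X') ∧
      (Dense (U : Set X) → Surjective π) ∧ (IsReduced X → IsReduced X') ∧
      (Dense (U : Set X) → IrreducibleSpace X → IrreducibleSpace X') := by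
  choose n h hh hhf using fun k => exists_immersion_quasiAffine f (hV k)
  obtain ⟨N, X', π, j, σ, m, hj, hjf, hπ, hiso, hσπ, hσ, hm, hmπ⟩ :=
    exists_chow_core f r V hcov n h hh hhf U hU hUV
  haveI := hj
  haveI := hπ
  haveI : QuasiCompact (π ≫ f) := inferInstance
  haveI : IsSeparated (CohB1.ProjSpaceOver.toBase N S) := by
    dsimp only [CohB1.ProjSpaceOver.toBase]; infer_instance
  haveI : QuasiCompact j := by
    haveI : QuasiCompact (j ≫ CohB1.ProjSpaceOver.toBase N S) := by rw [hjf]; infer_instance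
    exact QuasiCompact.of_comp j (CohB1.ProjSpaceOver.toBase N S)
  have hrange : DenseRange σ := fun x => mem_closure_iff.2 fun O hO hx => by
    obtain ⟨y, hy⟩ := hσ.exists_mem (W := ⟨O, hO⟩) hx
    exact ⟨σ y, hy, y, rfl⟩
  have hsub : Set.range σ ⊆ (π ⁻¹ᵁ U : X'.Opens) := by
    rintro _ ⟨y, rfl⟩
    show π (σ y) ∈ U
    rw [← Scheme.Hom.comp_apply, hσπ]
    exact y.2
  refine ⟨N, X', π, j, σ, hj, hjf, hπ, hiso, ?_, ?_, hrange.mono hsub, fun hd => ⟨fun x => ?_⟩, fun hX => ?_,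
    fun hd hX => ?_⟩
  · exact ProjBundleLib.isProjective_of_isHProjective ⟨N, m, hm, hmπ⟩
  · exact ProjBundleLib.isQuasiProjective_of_immersion
      (ProjBundleLib.isProjective_of_isHProjective ⟨N, 𝟙 _, inferInstance, Category.id_comp _⟩) j hjf
  · have h1 : (U : Set X) ⊆ Set.range π := fun y hy => ⟨σ ⟨y, hy⟩, by
      rw [← Scheme.Hom.comp_apply, hσπ]; rfl⟩
    exact π.isClosedMap.isClosed_range.closure_subset_iff.2 h1 (hd x)
  · haveI := hX
    haveI : IsReduced U.toScheme := isReduced_of_isOpenImmersion U.ι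
    exact ⟨fun W => isReduced_of_injective (σ.app W).hom (hσ W)⟩
  · haveI := hX
    haveI : Nonempty X := inferInstance
    obtain ⟨y, hy⟩ := hd.nonempty
    have hUi : IsIrreducible (U : Set X) := ⟨⟨y, hy⟩, (IrreducibleSpace.isIrreducible_univ X).2.open_subset U.2 (Set.subset_univ _)⟩
    haveI : IrreducibleSpace U.toScheme := Subtype.irreducibleSpace hUi
    have h1 := ((IrreducibleSpace.isIrreducible_univ U.toScheme).image σ σ.continuous.continuousOn).closure
    rw [Set.image_univ, hrange.closure_range] at h1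
    haveI : Nonempty X' := ⟨σ ⟨y, hy⟩⟩
    exact { toPreirreducibleSpace := ⟨h1.isPreirreducible⟩, toNonempty := inferInstance }

/-- Chow's lemma with a dense open. -/
theorem exists_chow_dense (f : X ⟶ S) [CompactSpace S] [QuasiSeparatedSpace S] [IsSeparated f]
    [LocallyOfFiniteType f] [QuasiCompact f] (hfin : (irreducibleComponents (X : Type u)).Finite) :
    ∃ (N : ℕ) (X' : Scheme.{u}) (π : X' ⟶ X) (j : X' ⟶ CohB1.ProjSpaceOver N S),
      IsImmersion j ∧ j ≫ CohB1.ProjSpaceOver.toBase N S = π ≫ f ∧ IsProper π ∧ Surjective π ∧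
      RelProj.IsProjective π ∧ RelProj.IsQuasiProjective (π ≫ f) ∧
      (IsReduced X → IsReduced X') ∧ (IrreducibleSpace X → IrreducibleSpace X') ∧
      ∃ U : X.Opens, Dense (U : Set X) ∧ Dense ((π ⁻¹ᵁ U : X'.Opens) : Set X') ∧ IsIso (π ∣_ U) := by
  haveI : QuasiSeparatedSpace X := quasiSeparatedSpace_of_quasiSeparated f
  haveI : CompactSpace X := QuasiCompact.compactSpace_of_compactSpace f
  obtain ⟨r, V, U, hV, hcov, hUV, hd, hUeq⟩ := exists_cover_dense (X := X) hfin
  have hU : IsCompact (U : Set X) := by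
    rcases Nat.eq_zero_or_pos r with rfl | hr
    · have : IsEmpty X := ⟨fun x => (hcov x).choose.elim0⟩
      exact Set.eq_empty_of_isEmpty (U : Set X) ▸ isCompact_empty
    · rw [hUeq hr]
      suffices ∀ T : Finset (Fin r), T.Nonempty → IsCompact (⋂ k ∈ T, (V k : Set X)) by
        simpa using this Finset.univ ⟨⟨0, hr⟩, Finset.mem_univ _⟩
      intro T hT
      have : ((⋂ k ∈ T, (V k : Set X)) = (⋂ k ∈ T, (V k : Set X))) ∧ IsCompact (⋂ k ∈ T, (V k : Set X)) ∧ IsOpen (⋂ k ∈ T, (V k : Set X)) := by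
        induction hT using Finset.Nonempty.cons_induction with
        | singleton a => exact ⟨rfl, by simpa using (hV a).isCompact, by simpa using (V a).2⟩
        | cons a T ha hT ih =>
          refine ⟨rfl, ?_, isOpen_biInter_finset fun k _ => (V k).2⟩
          rw [Finset.cons_eq_insert, Finset.set_biInter_insert]
          exact QuasiSeparatedSpace.inter_isCompact _ _ (V a).2 (hV a).isCompact ih.2.2 ih.2.1
      exact this.2.1
  obtain ⟨N, X', π, j, σ, hj, hjf, hπ, hiso, hproj, hqp, hd', hs, hred, hirr⟩ := exists_chow f V (fun k => isQuasiAffine_of_isAffineOpen (hV k)) hcov U hU hUV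
  exact ⟨N, X', π, j, hj, hjf, hπ, hs hd, hproj, hqp, hred, hirr hd, U, hd, hd', hiso⟩

end Groth.Agent.ChowLib
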