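import Groth.Agent.ChowLib.SchDense
import Groth.Agent.ProperFin.Chow
import Groth.Agent.CompleteCurve.ProjSpace

/-! The construction in Chow's lemma: graphs into products of projective spaces. -/

set_option autoImplicit false
set_option backward.defeqAttrib.useBackward true
set_option backward.isDefEq.respectTransparency false
set_option linter.style.haveILetI false

universe u

open CategoryTheory CategoryTheory.Limits AlgebraicGeometry TopologicalSpace

noncomputable section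

namespace Groth.Agent.ChowLib

abbrev PZ (n : ℕ) : Scheme.{u} := CohB1.ProjSpace n (ULift.{u} ℤ)

theorem to_ext {T : Scheme.{u}} (a b : T ⟶ Spec (CommRingCat.of (ULift.{u} ℤ))) : a = b :=
  specULiftZIsTerminal.hom_ext a b

theorem eqToHom_opens_ι {X : Scheme.{u}} {U V : X.Opens} (h : U = V) (h' : U.toScheme = V.toScheme) :
    eqToHom h' ≫ V.ι = U.ι := by
  subst h
  simp

/-- A morphism with a target cover by opens over which it is a closed immersion is an immersion. -/
theorem isImmersion_of_opens {X Y : Scheme.{u}} (j : X ⟶ Y) {ι : Type*} (O : ι → Y.Opens)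
    (hcov : ∀ x, ∃ k, j x ∈ O k) (h : ∀ k, IsClosedImmersion (j ∣_ O k)) : IsImmersion j := by
  let Ω : Y.Opens := ⨆ k, O k
  haveI : IsClosedImmersion (j ∣_ Ω) := by
    refine (IsZariskiLocalAtTarget.iff_of_iSup_eq_top (P := @IsClosedImmersion) (fun k => Ω.ι ⁻¹ᵁ O k) ?_).2 fun k => ?_
    · refine top_le_iff.1 fun y _ => ?_
      obtain ⟨k, hk⟩ := Opens.mem_iSup.1 y.2
      exact Opens.mem_iSup.2 ⟨k, hk⟩
    · refine (MorphismProperty.arrow_mk_iso_iff @IsClosedImmersion
        (morphismRestrictRestrict j Ω (Ω.ι ⁻¹ᵁ O k) ≪≫ morphismRestrictEq j ?_)).2 (h k)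
      rw [Scheme.Hom.image_preimage_eq_opensRange_inf, Scheme.Opens.opensRange_ι, inf_eq_right]
      exact le_iSup O k
  let e : X ⟶ (j ⁻¹ᵁ Ω : X.Opens) := IsOpenImmersion.lift (j ⁻¹ᵁ Ω).ι (𝟙 X) (by
    rw [Scheme.Opens.range_ι]
    rintro x -
    obtain ⟨k, hk⟩ := hcov x
    exact Opens.mem_iSup.2 ⟨k, hk⟩)
  haveI : IsIso e := by
    refine ⟨(j ⁻¹ᵁ Ω).ι, IsOpenImmersion.lift_fac _ _ _, ?_⟩
    rw [← cancel_mono (j ⁻¹ᵁ Ω).ι, Category.assoc, IsOpenImmersion.lift_fac, Category.comp_id, Category.id_comp]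
  have he : e ≫ (j ∣_ Ω) ≫ Ω.ι = j := by rw [morphismRestrict_ι, IsOpenImmersion.lift_fac_assoc, Category.id_comp]
  rw [← he]
  infer_instance

variable {X S : Scheme.{u}}

/-- The construction: `X'` with a proper map to `X`, iso over `U`, and an immersion into `P^N_S`. -/
theorem exists_chow_core (f : X ⟶ S) [QuasiSeparatedSpace S] [IsSeparated f] [QuasiCompact f]
    (r : ℕ) (V : Fin r → X.Opens) (hcov : ∀ x, ∃ k, x ∈ V k) (n : Fin r → ℕ)
    (h : ∀ k, (V k).toScheme ⟶ CohB1.ProjSpaceOver (n k) S) (hh : ∀ k, IsImmersion (h k))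
    (hhf : ∀ k, h k ≫ CohB1.ProjSpaceOver.toBase (n k) S = (V k).ι ≫ f)
    (U : X.Opens) (hU : IsCompact (U : Set X)) (hUV : ∀ k, U ≤ V k) :
    ∃ (N : ℕ) (X' : Scheme.{u}) (π : X' ⟶ X) (j : X' ⟶ CohB1.ProjSpaceOver N S) (σ : U.toScheme ⟶ X')
      (m : X' ⟶ CohB1.ProjSpaceOver N X),
      IsImmersion j ∧ j ≫ CohB1.ProjSpaceOver.toBase N S = π ≫ f ∧ IsProper π ∧
        IsIso (π ∣_ U) ∧ σ ≫ π = U.ι ∧ AppInj σ ∧
        IsClosedImmersion m ∧ m ≫ CohB1.ProjSpaceOver.toBase N X = π := by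
  classical
  haveI : QuasiSeparatedSpace X := quasiSeparatedSpace_of_quasiSeparated f
  haveI : CompactSpace U.toScheme := isCompact_iff_compactSpace.1 hU
  haveI : QuasiCompact U.ι := QuasiCompact.of_comp U.ι (terminal.from X)
  let A : Type u := ULift.{u} ℤ
  let p : X ⟶ Spec (CommRingCat.of A) := specULiftZIsTerminal.from X
  obtain ⟨N, P, s, ι, hι, hs, pr, hpr, hlift⟩ := ProperFin.exists_segreProd (A := A) r n
  let cP : ∀ k, CohB1.ProjSpaceOver (n k) S ⟶ PZ (n k) := fun k => pullback.fst _ _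
  obtain ⟨l, hl, hlk⟩ := hlift U.toScheme (U.ι ≫ p) (fun k => X.homOfLE (hUV k) ≫ h k ≫ cP k)
    fun k => to_ext _ _
  let G : U.toScheme ⟶ pullback p s := pullback.lift U.ι l hl.symm
  haveI : IsProper s := hs ▸ inferInstance
  haveI : QuasiCompact G := by
    haveI : QuasiCompact (G ≫ pullback.fst p s) := by rw [pullback.lift_fst]; infer_instance
    exact QuasiCompact.of_comp G (pullback.fst p s)
  have hdense : AppInj G.toImage := appInj_toImage G
  let π : G.image ⟶ X := G.imageι ≫ pullback.fst p s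
  haveI : IsProper π := inferInstance
  let P' : G.image ⟶ P := G.imageι ≫ pullback.snd p s
  let sS : S ⟶ Spec (CommRingCat.of A) := specULiftZIsTerminal.from S
  let Q : ∀ k, G.image ⟶ CohB1.ProjSpaceOver (n k) S := fun k =>
    pullback.lift (P' ≫ pr k) (π ≫ f) (to_ext _ _)
  have hQ : ∀ k, Q k ≫ CohB1.ProjSpaceOver.toBase (n k) S = π ≫ f := fun k => pullback.lift_snd _ _ _
  have hσπ : G.toImage ≫ π = U.ι := by
    simp only [π, G, G.toImage_imageι_assoc, pullback.lift_fst]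
  haveI : ∀ k, IsSeparated (CohB1.ProjSpaceOver.toBase (n k) S) := fun k => by
    dsimp only [CohB1.ProjSpaceOver.toBase]; infer_instance
  -- the graph factors agree with the charts
  have hagree : ∀ k, (π ∣_ V k) ≫ h k = (π ⁻¹ᵁ V k).ι ≫ Q k := fun k => by
    have hle : ∀ x : U.toScheme, G.toImage x ∈ π ⁻¹ᵁ V k := fun x => by
      show π (G.toImage x) ∈ V k
      rw [← Scheme.Hom.comp_apply, hσπ]
      exact hUV k x.2
    let a : U.toScheme ⟶ (π ⁻¹ᵁ V k).toScheme :=
      IsOpenImmersion.lift (π ⁻¹ᵁ V k).ι G.toImage (by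
        rw [Scheme.Opens.range_ι]
        exact Set.range_subset_iff.2 hle)
    have haι : a ≫ (π ⁻¹ᵁ V k).ι = G.toImage := IsOpenImmersion.lift_fac _ _ _
    have ha : AppInj a := hdense.of_comp_openImmersion _ haι
    refine ha.eq_of_comp_eq (CohB1.ProjSpaceOver.toBase (n k) S) ?_ ?_
    · simp only [Category.assoc, hhf, hQ]
      rw [morphismRestrict_ι_assoc]
    · have e1 : a ≫ (π ∣_ V k) = X.homOfLE (hUV k) := by
        rw [← cancel_mono (V k).ι, Category.assoc, morphismRestrict_ι, Scheme.homOfLE_ι,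
          reassoc_of% haι, hσπ]
      rw [reassoc_of% e1, reassoc_of% haι]
      apply pullback.hom_ext
      · simp only [Q, P', Category.assoc, pullback.lift_fst]
        rw [Scheme.Hom.toImage_imageι_assoc, pullback.lift_snd_assoc, hlk]
      · simp only [Q, Category.assoc, pullback.lift_snd]
        rw [show pullback.snd _ sS = CohB1.ProjSpaceOver.toBase (n k) S from rfl, hhf,
          Scheme.homOfLE_ι_assoc, reassoc_of% hσπ]
  let O : ∀ k, (CohB1.ProjSpaceOver (n k) S).Opens := fun k => haveI := hh k; (h k).coborderRange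
  have hpre : ∀ k, ∃ b : (Q k ⁻¹ᵁ O k).toScheme ⟶ (O k).toScheme,
      b = Q k ∣_ O k ∧ IsProper b ∧ Q k ⁻¹ᵁ O k = π ⁻¹ᵁ V k := fun k => by
    haveI := hh k
    let W := Q k ⁻¹ᵁ O k
    have hle : π ⁻¹ᵁ V k ≤ W := fun x hx => by
      show Q k x ∈ O k
      have e := congr($(hagree k) ⟨x, hx⟩)
      rw [Scheme.Hom.comp_apply, Scheme.Hom.comp_apply] at e
      exact e ▸ subset_coborder ⟨(π ∣_ V k) ⟨x, hx⟩, rfl⟩
    let b := Q k ∣_ O k
    have hb : G.image.homOfLE hle ≫ b = (π ∣_ V k) ≫ (h k).liftCoborder := by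
      rw [← cancel_mono (O k).ι, Category.assoc, Category.assoc, morphismRestrict_ι,
        Scheme.Hom.liftCoborder_ι, Scheme.homOfLE_ι_assoc]
      exact (hagree k).symm
    haveI : IsSeparated (Q k) := by
      haveI : IsSeparated (Q k ≫ CohB1.ProjSpaceOver.toBase (n k) S) := by rw [hQ]; infer_instance
      exact IsSeparated.of_comp _ (CohB1.ProjSpaceOver.toBase (n k) S)
    haveI : IsSeparated b := IsZariskiLocalAtTarget.restrict (P := @IsSeparated) inferInstance _
    haveI : IsProper (G.image.homOfLE hle ≫ b) := by rw [hb]; infer_instance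
    haveI : IsProper (G.image.homOfLE hle) := IsProper.of_comp _ b
    have heq : W = π ⁻¹ᵁ V k := by
      refine le_antisymm (fun x hx => ?_) hle
      by_contra hx'
      have hcl : IsClosed (Set.range (G.image.homOfLE hle)) :=
        (G.image.homOfLE hle).isClosedMap.isClosed_range
      obtain ⟨O', hO', hOeq⟩ := isOpen_induced_iff.1 hcl.isOpen_compl
      have h1 : x ∈ O' := by
        have : (⟨x, hx⟩ : W) ∈ (Set.range (G.image.homOfLE hle))ᶜ := by
          rintro ⟨y, hy⟩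
          have e := congr(W.ι $hy)
          rw [← Scheme.Hom.comp_apply, Scheme.homOfLE_ι] at e
          exact hx' (show x ∈ π ⁻¹ᵁ V k from (show y.1 = x from e) ▸ y.2)
        rw [← hOeq] at this
        exact this
      obtain ⟨u₀, hu₀⟩ := hdense.exists_mem (W := ⟨O' ∩ W, hO'.inter W.2⟩) (x := x) ⟨h1, hx⟩
      have hu₁ : G.toImage u₀ ∈ π ⁻¹ᵁ V k := by
        show π (G.toImage u₀) ∈ V k
        rw [← Scheme.Hom.comp_apply, hσπ]
        exact hUV k u₀.2
      have : (⟨G.toImage u₀, hu₀.2⟩ : W) ∈ (Set.range (G.image.homOfLE hle))ᶜ := hOeq ▸ hu₀.1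
      refine this ⟨⟨G.toImage u₀, hu₁⟩, Subtype.ext ?_⟩
      show W.ι ((G.image.homOfLE hle) ⟨G.toImage u₀, hu₁⟩) = G.toImage u₀
      rw [← Scheme.Hom.comp_apply, Scheme.homOfLE_ι]
      rfl
    haveI : IsIso (G.image.homOfLE hle) := by
      refine ⟨G.image.homOfLE heq.le, ?_, ?_⟩ <;> simp [← cancel_mono (Scheme.Opens.ι _)]
    refine ⟨b, rfl, ?_, heq⟩
    exact (MorphismProperty.cancel_left_of_respectsIso @IsProper (G.image.homOfLE hle) b).1 inferInstance
  -- the immersion into the product over the base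
  let j₀ : G.image ⟶ pullback s sS := pullback.lift P' (π ≫ f) (to_ext _ _)
  let prS : ∀ k, pullback s sS ⟶ CohB1.ProjSpaceOver (n k) S := fun k =>
    pullback.lift (pullback.fst s sS ≫ pr k) (pullback.snd s sS) (to_ext _ _)
  have hj₀ : ∀ k, j₀ ≫ prS k = Q k := fun k => by
    apply pullback.hom_ext <;> simp [j₀, prS, Q]
  haveI : Mono j₀ := ⟨fun {T} a b hab => by
    have hP : a ≫ P' = b ≫ P' := by
      have := congrArg (· ≫ pullback.fst s sS) hab
      simpa only [j₀, Category.assoc, pullback.lift_fst] using this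
    have hQ' : ∀ k, a ≫ Q k = b ≫ Q k := fun k => by rw [← hj₀, reassoc_of% hab]
    have hπ : a ≫ π = b ≫ π := by
      refine Scheme.Cover.hom_ext (T.openCoverOfIsOpenCover (fun k => a ⁻¹ᵁ (π ⁻¹ᵁ V k))
        (TopologicalSpace.IsOpenCover.mk (top_le_iff.1 fun t _ =>
          Opens.mem_iSup.2 (hcov (π (a t)))))) _ _ fun k => ?_
      show (a ⁻¹ᵁ (π ⁻¹ᵁ V k)).ι ≫ a ≫ π = (a ⁻¹ᵁ (π ⁻¹ᵁ V k)).ι ≫ b ≫ π
      obtain ⟨-, -, -, hk⟩ := hpre k
      have hab' : b ⁻¹ᵁ (π ⁻¹ᵁ V k) = a ⁻¹ᵁ (π ⁻¹ᵁ V k) := by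
        rw [← hk, ← Scheme.Hom.comp_preimage, ← Scheme.Hom.comp_preimage, hQ' k]
      let a' := IsOpenImmersion.lift (π ⁻¹ᵁ V k).ι ((a ⁻¹ᵁ (π ⁻¹ᵁ V k)).ι ≫ a) (by
        rw [Scheme.Opens.range_ι]
        rintro _ ⟨x, rfl⟩
        exact x.2)
      let b' := IsOpenImmersion.lift (π ⁻¹ᵁ V k).ι ((a ⁻¹ᵁ (π ⁻¹ᵁ V k)).ι ≫ b) (by
        rw [Scheme.Opens.range_ι]
        rintro _ ⟨x, rfl⟩
        exact (show x.1 ∈ b ⁻¹ᵁ (π ⁻¹ᵁ V k) from hab'.symm ▸ x.2))
      have key : a' ≫ (π ∣_ V k) = b' ≫ (π ∣_ V k) := by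
        haveI := hh k
        haveI : Mono (h k) := inferInstance
        rw [← cancel_mono (h k), Category.assoc, Category.assoc, hagree,
          IsOpenImmersion.lift_fac_assoc, IsOpenImmersion.lift_fac_assoc]
        simp only [Category.assoc, hQ' k]
      have := congrArg (· ≫ (V k).ι) key
      simpa only [Category.assoc, morphismRestrict_ι, a', b', IsOpenImmersion.lift_fac_assoc] using this
    rw [← cancel_mono G.imageι]
    apply pullback.hom_ext
    · simpa only [Category.assoc] using hπ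
    · simpa only [Category.assoc] using hP⟩
  haveI : IsImmersion j₀ := by
    refine isImmersion_of_opens j₀ (fun k => prS k ⁻¹ᵁ O k) (fun x => ?_) fun k => ?_
    · obtain ⟨k, hk⟩ := hcov (π x)
      obtain ⟨-, -, -, he⟩ := hpre k
      refine ⟨k, ?_⟩
      show prS k (j₀ x) ∈ O k
      rw [← Scheme.Hom.comp_apply, hj₀]
      exact he.ge hk
    · obtain ⟨_, rfl, hb, -⟩ := hpre k
      haveI : Mono (j₀ ∣_ prS k ⁻¹ᵁ O k) := by
        haveI : Mono ((j₀ ∣_ prS k ⁻¹ᵁ O k) ≫ (prS k ⁻¹ᵁ O k).ι) := by rw [morphismRestrict_ι]; infer_instance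
        exact mono_of_mono _ (prS k ⁻¹ᵁ O k).ι
      haveI : IsSeparated (prS k) := by
        haveI : IsSeparated (prS k ≫ CohB1.ProjSpaceOver.toBase (n k) S) := by
          rw [show prS k ≫ CohB1.ProjSpaceOver.toBase (n k) S = pullback.snd s sS from pullback.lift_snd _ _ _]
          infer_instance
        exact IsSeparated.of_comp _ (CohB1.ProjSpaceOver.toBase (n k) S)
      haveI : IsSeparated (prS k ∣_ O k) := IsZariskiLocalAtTarget.restrict (P := @IsSeparated) inferInstance _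
      have e : (Q k ∣_ O k) = eqToHom (by rw [← hj₀]; rfl) ≫ (j₀ ∣_ prS k ⁻¹ᵁ O k) ≫ (prS k ∣_ O k) := by
        rw [← cancel_mono (O k).ι]
        simp only [Category.assoc, morphismRestrict_ι, morphismRestrict_ι_assoc, hj₀]
        rw [← Category.assoc]
        congr 1
        symm
        exact eqToHom_opens_ι (by rw [← hj₀]; rfl) _
      haveI : IsProper ((j₀ ∣_ prS k ⁻¹ᵁ O k) ≫ (prS k ∣_ O k)) :=
        (MorphismProperty.cancel_left_of_respectsIso @IsProper _ _).1 (e ▸ hb)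
      haveI : IsProper (j₀ ∣_ prS k ⁻¹ᵁ O k) := IsProper.of_comp _ (prS k ∣_ O k)
      exact (IsClosedImmersion.iff_isProper_and_mono _).2 ⟨inferInstance, inferInstance⟩
  let ιS : pullback s sS ⟶ CohB1.ProjSpaceOver N S :=
    pullback.map _ _ _ _ ι (𝟙 S) (𝟙 _) (to_ext _ _) (to_ext _ _)
  haveI : IsClosedImmersion ιS :=
    MorphismProperty.pullbackMap (P := @IsClosedImmersion) hι (show IsClosedImmersion (𝟙 S) from inferInstance) hs.symm (Category.id_comp _).symm
  let ιX : pullback p s ⟶ CohB1.ProjSpaceOver N X :=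
    (pullbackSymmetry p s).hom ≫ pullback.map _ _ _ _ ι (𝟙 X) (𝟙 _) (to_ext _ _) (to_ext _ _)
  haveI : IsClosedImmersion ιX := by
    haveI : IsClosedImmersion (pullback.map s p (CohB1.ProjSpace.toSpec N A) (specULiftZIsTerminal.from X) ι (𝟙 X)
        (𝟙 _) (to_ext _ _) (to_ext _ _)) :=
      MorphismProperty.pullbackMap (P := @IsClosedImmersion) hι (show IsClosedImmersion (𝟙 X) from inferInstance) hs.symm
        (Category.id_comp _).symm
    infer_instance
  let σ : U.toScheme ⟶ (π ⁻¹ᵁ U).toScheme := IsOpenImmersion.lift (π ⁻¹ᵁ U).ι G.toImage (by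
    rw [Scheme.Opens.range_ι]
    rintro _ ⟨x, rfl⟩
    show π (G.toImage x) ∈ U
    rw [← Scheme.Hom.comp_apply, hσπ]
    exact x.2)
  have hσ : σ ≫ (π ∣_ U) = 𝟙 _ := by
    rw [← cancel_mono U.ι, Category.assoc, morphismRestrict_ι, IsOpenImmersion.lift_fac_assoc, hσπ,
      Category.id_comp]
  have hiso : IsIso (π ∣_ U) := by
    haveI : IsClosedImmersion σ := by
      haveI : IsClosedImmersion (σ ≫ (π ∣_ U)) := hσ ▸ inferInstance
      haveI : IsSeparated (π ∣_ U) := IsZariskiLocalAtTarget.restrict (P := @IsSeparated) inferInstance _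
      exact IsClosedImmersion.of_comp σ (π ∣_ U)
    haveI : IsIso σ := by
      refine IsClosedImmersion.isIso_iff_ker_eq_bot.2 (Scheme.IdealSheafData.ext (funext fun W => ?_))
      rw [Scheme.Hom.ker_apply, Scheme.IdealSheafData.ideal_bot, Pi.bot_apply, ← RingHom.injective_iff_ker_eq_bot]
      exact (hdense.of_comp_openImmersion (π ⁻¹ᵁ U).ι (IsOpenImmersion.lift_fac _ _ _)) W.1
    exact ⟨σ, by rw [← cancel_epi σ, ← Category.assoc, hσ, Category.id_comp, Category.comp_id], hσ⟩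
  refine ⟨N, G.image, π, j₀ ≫ ιS, G.toImage, G.imageι ≫ ιX, inferInstance, ?_, inferInstance, hiso, hσπ, hdense,
    inferInstance, ?_⟩
  · simp [ιS, j₀, CohB1.ProjSpaceOver.toBase]
  · simp [ιX, π, CohB1.ProjSpaceOver.toBase]

end Groth.Agent.ChowLib
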