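import Mathlib.AlgebraicGeometry.Morphisms.ClosedImmersion
import Mathlib.AlgebraicGeometry.Morphisms.Separated

/-! Maps agreeing on a scheme-theoretically dense part agree. -/

set_option autoImplicit false
set_option backward.isDefEq.respectTransparency false
set_option linter.style.haveILetI false

universe u

open CategoryTheory CategoryTheory.Limits AlgebraicGeometry TopologicalSpace

namespace Groth.Agent.ChowLib

/-- Functions vanishing after pullback vanish. -/
def AppInj {U X : Scheme.{u}} (a : U ⟶ X) : Prop :=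
  ∀ W : X.Opens, Function.Injective (a.app W)

theorem appInj_toImage {U Y : Scheme.{u}} (f : U ⟶ Y) [QuasiCompact f] : AppInj f.toImage := fun W s t h => by
  refine TopCat.Presheaf.section_ext f.image.sheaf W s t fun x hx => f.stalkFunctor_toImage_injective x ?_
  erw [TopCat.Presheaf.stalkFunctor_map_germ_apply, TopCat.Presheaf.stalkFunctor_map_germ_apply]
  exact congrArg _ h

theorem AppInj.exists_mem {U X : Scheme.{u}} {a : U ⟶ X} (ha : AppInj a) {W : X.Opens} {x : X} (hx : x ∈ W) :
    ∃ y : U, a y ∈ W := by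
  by_contra hne
  push Not at hne
  have he : a ⁻¹ᵁ W = ⊥ := Opens.ext (Set.eq_empty_iff_forall_notMem.2 fun y hy => hne y hy)
  haveI : Subsingleton Γ(U, a ⁻¹ᵁ W) := by
    rw [he]; exact CommRingCat.subsingleton_of_isTerminal U.sheaf.isTerminalOfEmpty
  haveI : Nonempty W := ⟨⟨x, hx⟩⟩
  exact one_ne_zero (α := Γ(X, W)) (ha W (Subsingleton.elim _ _))

theorem AppInj.of_comp_openImmersion {U X Y : Scheme.{u}} {a : U ⟶ X} (ha : AppInj a) (j : Y ⟶ X)
    [IsOpenImmersion j] {a' : U ⟶ Y} (e : a' ≫ j = a) : AppInj a' := fun W s t h => by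
  subst e
  obtain ⟨s, rfl⟩ := (ConcreteCategory.bijective_of_isIso (j.appIso W).hom).2 s
  obtain ⟨t, rfl⟩ := (ConcreteCategory.bijective_of_isIso (j.appIso W).hom).2 t
  rw [Scheme.Hom.appIso_hom', ← ConcreteCategory.comp_apply, ← ConcreteCategory.comp_apply,
    Scheme.Hom.app_eq_appLE, Scheme.Hom.appLE_comp_appLE] at h
  refine congrArg _ (ha (j ''ᵁ W) ?_)
  have hp : (a' ≫ j) ⁻¹ᵁ (j ''ᵁ W) = a' ⁻¹ᵁ W := by
    rw [Scheme.Hom.comp_preimage, Scheme.Hom.preimage_image_eq]
  rw [Scheme.Hom.appLE] at h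
  simp only [CommRingCat.comp_apply] at h
  haveI : IsIso (homOfLE hp.ge) := ⟨homOfLE hp.le, rfl, rfl⟩
  exact (ConcreteCategory.bijective_of_isIso (U.presheaf.map (homOfLE hp.ge).op)).1 h

/-- Agreement on a scheme-theoretically dense part. -/
theorem AppInj.eq_of_comp_eq {U X T S : Scheme.{u}} {a : U ⟶ X} (ha : AppInj a) (s : T ⟶ S) [IsSeparated s]
    {f g : X ⟶ T} (h : f ≫ s = g ≫ s) (e : a ≫ f = a ≫ g) : f = g := by
  let f' : Over.mk (f ≫ s) ⟶ Over.mk s := Over.homMk f
  let g' : Over.mk (f ≫ s) ⟶ Over.mk s := Over.homMk g h.symm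
  haveI : IsSeparated (Over.mk s).hom := ‹IsSeparated s›
  let a' : Over.mk (a ≫ f ≫ s) ⟶ Over.mk (f ≫ s) := Over.homMk a
  have e' : a' ≫ f' = a' ≫ g' := Over.OverMorphism.ext e
  let l := equalizer.lift a' e'
  let i := (equalizer.ι f' g').left
  have hl : l.left ≫ i = a := congrArg CommaMorphism.left (equalizer.lift_ι a' e')
  haveI : QuasiCompact i := inferInstance
  haveI : IsIso i := by
    refine IsClosedImmersion.isIso_iff_ker_eq_bot.2 (Scheme.IdealSheafData.ext (funext fun V => ?_))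
    rw [Scheme.Hom.ker_apply, Scheme.IdealSheafData.ideal_bot, Pi.bot_apply, ← RingHom.injective_iff_ker_eq_bot]
    intro p q hpq
    refine ha V.1 ?_
    rw [Scheme.Hom.congr_app hl.symm, Scheme.Hom.comp_app]
    simp only [CommRingCat.comp_apply]
    exact congrArg _ (congrArg _ hpq)
  have hc : i ≫ f = i ≫ g := congrArg CommaMorphism.left (equalizer.condition f' g')
  exact (cancel_epi i).1 hc

end Groth.Agent.ChowLib
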